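import Groth.Agent.InvPullLib.Basic
import Groth.Agent.LocalGenLib.Space
import Groth.Agent.ModSiteLib.RestrTensor

/-!
# Invertible modules on locally ringed spaces are locally free of rank one
-/

set_option autoImplicit false
set_option linter.style.haveILetI false
set_option backward.isDefEq.respectTransparency false
set_option backward.isDefEq.respectTransparency.types false
set_option maxHeartbeats 1000000

universe u

open CategoryTheory Limits MonoidalCategory Opposite TopologicalSpace Groth.Agent.ModSiteLib
  Groth.Agent.ModSiteLib.SetPull ModSiteLib Groth.Agent.ModSiteLib.FlatStalk Groth.Agent.LocalGenLib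

namespace Groth.Agent.InvLocLib

variable {C : Type u} [SmallCategory C] {J : GrothendieckTopology C} {O : Sheaf J CommRingCat.{u}}

theorem ap_restrSheafify_inv (X : C) (P : PMod O) (W : Over X) (z : P.obj (op W.left)) :
    ap (restrSheafifyIso X P).inv W
        (((adjP (O.over X)).unit.app ((oRes O X).obj P)).app (op W) z) =
      ((adjP O).unit.app P).app (op W.left) z := by
  let Y := (ModSite.restr O X).obj ((aP O).obj P)
  let a := (oRes O X).map ((adjP O).unit.app P)
  let b := ((restrPreIso O X).app ((aP O).obj P)).inv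
  show ap ((aP (O.over X)).map a ≫ (aP (O.over X)).map b ≫ (adjP (O.over X)).counit.app Y) W _ = _
  refine (ap_comp _ _ W _).trans ((ap_comp _ _ W _).trans ?_)
  refine (congrArg (fun t => ap ((adjP (O.over X)).counit.app Y) W (ap ((aP (O.over X)).map b) W t))
    (ap_aP_map a W z)).trans ?_
  refine (congrArg (ap ((adjP (O.over X)).counit.app Y) W) (ap_aP_map b W _)).trans ?_
  exact congr(($((adjP (O.over X)).right_triangle_components Y)).app (op W)
    (b.app (op W) (a.app (op W) z)))

theorem ap_restrTensor_inv (X : C) (M N : ModSite.Mod O) (W : Over X) (m : Sec M W.left)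
    (n : Sec N W.left) :
    ap (restrTensorIso X M N).inv W
        (shT ((ModSite.restr O X).obj M) ((ModSite.restr O X).obj N) (V := W) m n) =
      shT M N m n := by
  refine (ap_comp _ _ W _).trans ?_
  refine (congrArg (ap (restrSheafifyIso X ((jP O).obj M ⊗ (jP O).obj N)).inv W)
    (ap_aP_map _ W _)).trans ?_
  exact ap_restrSheafify_inv X ((jP O).obj M ⊗ (jP O).obj N) W
    (TensorProduct.tmul (O.obj.obj (op W.left)) m n)

/-- A section of the unit as a scalar. -/
noncomputable abbrev toR {V : C} (x : Sec (ModSite.unit O) V) : O.obj.obj (op V) := x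

/-- The unit section. -/
noncomputable abbrev oneSec (V : C) : Sec (ModSite.unit O) V := (1 : O.obj.obj (op V))

section Terminal

variable {T : C} (hT : IsTerminal T) {L Q : ModSite.Mod O} (e : tens L Q ≅ ModSite.unit O)
  (l : Sec L T) (q : Sec Q T)

/-- The pairing against `q`. -/
noncomputable def pr {W : C} (m : Sec L W) : O.obj.obj (op W) :=
  toR (ap e.hom W (shT L Q m (res ((jP O).obj Q) (hT.from W).op q)))

/-- `m ↦ m - ⟨m, q⟩ l`. -/
noncomputable def defect : L ⟶ L :=
  ((adjP O).fullyFaithfulROfIsIsoCounit).preimage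
    (PresheafOfModules.Hom.mk
      (fun W => ModuleCat.ofHom
        { toFun := fun m : Sec L W.unop => m - pr hT e q m • res ((jP O).obj L) (hT.from W.unop).op l
          map_add' := fun m m' => by
            have h : pr hT e q (m + m') = pr hT e q m + pr hT e q m' :=
              (congrArg (ap e.hom W.unop) (shT_add_left L Q m m' _)).trans
                (map_add (((jP O).map e.hom).app W).hom _ _)
            rw [h, add_smul]
            exact add_sub_add_comm _ _ _ _
          map_smul' := fun (r : O.obj.obj (op W.unop)) (m : Sec L W.unop) => by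
            have h : pr hT e q (r • m) = r * pr hT e q m :=
              (congrArg (ap e.hom W.unop) (shT_smul_left L Q r m _)).trans (ap_smul e.hom W.unop _ _)
            show r • m - pr hT e q (r • m) • _ = r • (m - pr hT e q m • _)
            rw [h, smul_sub, mul_smul] })
      (fun {V W} g => by
        refine ModuleCat.hom_ext (LinearMap.ext fun m => ?_)
        have h1 : rC g.unop (pr hT e q (W := V.unop) m) = pr hT e q (res ((jP O).obj L) g.unop.op m) := by
          refine (app_res ((jP O).map e.hom) g.unop.op _).symm.trans (congrArg (ap e.hom W.unop) ?_)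
          refine (res_shT L Q g.unop m _).trans (congrArg (shT L Q _) ?_)
          rw [res_comp, ← op_comp, hT.hom_ext (g.unop ≫ hT.from V.unop) (hT.from W.unop)]
        show res ((jP O).obj L) g.unop.op m - pr hT e q (res ((jP O).obj L) g.unop.op m) • _ =
          res ((jP O).obj L) g.unop.op (m - pr hT e q m • res ((jP O).obj L) (hT.from V.unop).op l)
        refine Eq.trans ?_ (map_sub (((jP O).obj L).map g.unop.op).hom _ _).symm
        refine congrArg (res ((jP O).obj L) g.unop.op m - ·) ?_
        refine Eq.trans ?_ (res_smul _ g.unop.op _ _).symm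
        rw [res_comp, ← op_comp, hT.hom_ext (g.unop ≫ hT.from V.unop) (hT.from W.unop), ← h1]))

theorem ap_defect {W : C} (m : Sec L W) :
    ap (defect hT e l q) W m = m - pr hT e q m • res ((jP O).obj L) (hT.from W).op l := by
  show (((jP O).map (defect hT e l q)).app (op W)) m = _
  rw [defect, Functor.FullyFaithful.map_preimage]
  rfl

variable (hlq : toR (ap e.hom T (shT L Q l q)) = 1)

include hT hlq

theorem defect_eq_zero : defect hT e l q = 0 := by
  haveI : ((ModSite.tensorBi O).obj Q ⋙ (ModSite.tensorBi O).obj L).Faithful :=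
    Functor.Faithful.of_iso (InvPullLib.compIso e).symm
  haveI : ((ModSite.tensorBi O).obj Q).Faithful :=
    Functor.Faithful.of_comp _ ((ModSite.tensorBi O).obj L)
  haveI : ((ModSite.tensorBi O).flip.obj Q).Faithful := Functor.Faithful.of_iso (tensorFlipIso O Q).symm
  haveI : ((ModSite.tensorBi O).flip.obj Q).PreservesZeroMorphisms :=
    haveI := preservesColimits_tensor_flip O Q
    haveI := isLeftAdjoint_of_preservesColimits ((ModSite.tensorBi O).flip.obj Q)
    inferInstance
  apply ((ModSite.tensorBi O).flip.obj Q).map_injective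
  rw [Functor.map_zero]
  refine SheafOfModules.hom_ext (PresheafOfModules.hom_ext fun W => ModuleCat.hom_ext
    (LinearMap.ext fun z => ?_))
  show ap (((ModSite.tensorBi O).flip.obj Q).map (defect hT e l q)) W.unop z = 0
  have h1 : ap e.inv T (oneSec T) = shT L Q l q := by
    refine (congrArg (ap e.inv T) hlq.symm).trans ?_
    refine (ap_comp e.hom e.inv T _).symm.trans ?_
    rw [Iso.hom_inv_id]
    rfl
  let c : O.obj.obj (op W.unop) := (ap e.hom W.unop z : Sec (ModSite.unit O) W.unop)
  have hz : z = c • res ((jP O).obj (tens L Q)) (hT.from W.unop).op (shT L Q l q) := by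
    rw [← h1, ← app_res ((jP O).map e.inv)]
    refine Eq.trans ?_ (ap_smul e.inv W.unop _ _)
    refine Eq.trans ?_ (congrArg (ap e.inv W.unop)
      (show (c : Sec (ModSite.unit O) W.unop) = _ from
        ((congrArg (c * ·) (map_one (O.obj.map (hT.from W.unop).op).hom)).trans (mul_one c)).symm))
    refine Eq.trans ?_ (ap_comp e.hom e.inv W.unop z)
    rw [Iso.hom_inv_id]
    rfl
  rw [hz, ap_smul]
  have h0 : ap (defect hT e l q) T l = 0 := by
    rw [ap_defect, hT.hom_ext (hT.from T) (𝟙 T), op_id, res_id]
    have : pr hT e q l = 1 := by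
      rw [pr, hT.hom_ext (hT.from T) (𝟙 T), op_id, res_id]
      exact hlq
    rw [this, one_smul, sub_self]
  have h0' : ap (((ModSite.tensorBi O).flip.obj Q).map (defect hT e l q)) T (shT L Q l q) = 0 := by
    refine (ap_tensorBi₁ (defect hT e l q) Q l q).trans ?_
    rw [h0]
    exact shT_zero_left L Q q
  refine (congrArg (c • ·) ((app_res ((jP O).map (((ModSite.tensorBi O).flip.obj Q).map (defect hT e l q)))
    (hT.from W.unop).op _).trans ((congrArg (res _ (hT.from W.unop).op) h0').trans
      (ModSiteLib.res_zero _ _)))).trans ?_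
  exact smul_zero c

/-- A section pairing to one freely generates. -/
theorem exists_iso_free : ∃ φ : SheafOfModules.free (R := ModSite.ringSh O) PUnit.{u + 1} ≅ L,
    ap φ.hom T (freeSec O T PUnit.{u + 1} PUnit.unit) = l := by
  classical
  let φ : SheafOfModules.free (R := ModSite.ringSh O) PUnit.{u + 1} ⟶ L := freeLift hT fun _ => l
  have hφ : ap φ T (freeSec O T PUnit.{u + 1} PUnit.unit) = l := ap_freeLift hT _ _
  have hφ' : ∀ (W : C), ap φ W (res ((jP O).obj (SheafOfModules.free PUnit.{u + 1})) (hT.from W).op
      (freeSec O T PUnit.{u + 1} PUnit.unit)) = res ((jP O).obj L) (hT.from W).op l := fun W =>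
    (app_res ((jP O).map φ) _ _).trans (congrArg (res _ _) hφ)
  haveI : Epi φ := epi_of_loc_surjective φ fun W t => Loc.of_forall fun W' g => by
    refine ⟨pr hT e q (res ((jP O).obj L) g.op t) • res ((jP O).obj (SheafOfModules.free PUnit.{u + 1}))
      (hT.from W').op (freeSec O T PUnit.{u + 1} PUnit.unit), ?_⟩
    rw [ap_smul, hφ']
    have h := ap_defect hT e l q (res ((jP O).obj L) g.op t)
    rw [defect_eq_zero hT e l q hlq] at h
    exact (sub_eq_zero.1 (h.symm.trans rfl)).symm
  haveI : Mono φ := mono_of_injective_ap φ fun W => (injective_iff_map_eq_zero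
    (((jP O).map φ).app (op W)).hom).2 fun x hx => by
    refine sec_eq_zero_of_loc _ x ((loc_free hT x).mono fun W' g ⟨d, hd⟩ => ?_)
    have h0 : d PUnit.unit • res ((jP O).obj L) (hT.from W').op l = 0 := by
      rw [← hφ', ← ap_smul]
      refine (congrArg (ap φ W') ((Finset.sum_singleton _ _).symm.trans hd.symm)).trans ?_
      refine (app_res ((jP O).map φ) g.op x).trans ?_
      exact (congrArg (res _ g.op) hx).trans (ModSiteLib.res_zero _ _)
    have h1 : d PUnit.unit = 0 := by
      have h2 := congrArg (fun m => ap e.hom W' (shT L Q m (res ((jP O).obj Q) (hT.from W').op q))) h0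
      simp only [shT_zero_left, ap_zero, shT_smul_left, ap_smul] at h2
      rw [← res_shT] at h2
      replace h2 := (congrArg (d PUnit.unit • ·) (app_res ((jP O).map e.hom) (hT.from W').op (shT L Q l q))).symm.trans h2
      refine Eq.trans ?_ h2
      refine ((congrArg (d PUnit.unit * ·) ?_).trans (mul_one _)).symm
      exact (congrArg (rC (hT.from W')) hlq).trans (map_one _)
    refine hd.trans ((Finset.sum_singleton _ _).trans ?_)
    rw [h1, zero_smul]
  haveI : IsIso φ := isIso_of_mono_of_epi φ
  exact ⟨asIso φ, hφ⟩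

end Terminal

theorem exists_basis_of_pairing {L Q : ModSite.Mod O} (e : tens L Q ≅ ModSite.unit O) (X : C)
    (l : Sec L X) (q : Sec Q X) (h : toR (ap e.hom X (shT L Q l q)) = 1)
    (p : GrothendieckTopology.Point.{u} J) (v : p.fiber.obj X) :
    ∃ b : Module.Basis PUnit.{u + 1} (ModSite.stalkRing p O) (ModSite.stalkAb p L),
      b PUnit.unit = ModSite.germ p L X v l := by
  let e' : tens ((ModSite.restr O X).obj L) ((ModSite.restr O X).obj Q) ≅ ModSite.unit (O.over X) :=
    (restrTensorIso X L Q).symm ≪≫ (ModSite.restr O X).mapIso e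
  have hlq : toR (O := O.over X) (ap e'.hom (Over.mk (𝟙 X)) (shT ((ModSite.restr O X).obj L) ((ModSite.restr O X).obj Q)
      (V := Over.mk (𝟙 X)) l q)) = 1 :=
    ((ap_comp _ _ _ _).trans (congrArg (ap ((ModSite.restr O X).map e.hom) (Over.mk (𝟙 X)))
      (ap_restrTensor_inv X L Q (Over.mk (𝟙 X)) l q))).trans h
  obtain ⟨φ, hφ⟩ := exists_iso_free (Over.mkIdTerminal : IsTerminal (Over.mk (𝟙 X))) e' l q hlq
  obtain ⟨b, hb⟩ := exists_basis_of_iso p φ v
  exact ⟨b, (hb PUnit.unit).trans (congrArg (ModSite.germ p L X v) hφ)⟩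

section Point

variable {p : GrothendieckTopology.Point.{u} J}

/-- Around a point with local ring, some pairing is one. -/
theorem exists_pairing [IsLocalRing (ModSite.stalkRing p O)] {L Q : ModSite.Mod O}
    (e : tens L Q ≅ ModSite.unit O) {U : C} (v : p.fiber.obj U) :
    ∃ (V : C) (g : V ⟶ U) (w : p.fiber.obj V) (l : Sec L V) (q : Sec Q V),
      p.fiber.map g w = v ∧ toR (ap e.hom V (shT L Q l q)) = 1 := by
  classical
  let z : Sec (tens L Q) U := ap e.inv U (oneSec U)
  obtain ⟨V, g, w, hw, n, x, y, hxy⟩ := loc_point p (loc_tensor L Q z) v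
  let b : Fin n → O.obj.obj (op V) := fun i => toR (ap e.hom V (shT L Q (x i) (y i)))
  have hb : ∑ i, b i = 1 := by
    refine (ap_sum e.hom V Finset.univ fun i => shT L Q (x i) (y i)).symm.trans ?_
    refine (congrArg (ap e.hom V) hxy.symm).trans ((app_res ((jP O).map e.hom) g.op z).trans ?_)
    have hz : ap e.hom U z = oneSec U := by
      refine (ap_comp e.inv e.hom U _).symm.trans ?_
      rw [Iso.inv_hom_id]
      rfl
    exact (congrArg (res _ g.op) hz).trans (map_one (O.obj.map g.op).hom)
  obtain ⟨i, hi⟩ : ∃ i, IsUnit (ModSite.germRing p V w (b i)) := by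
    by_contra hc
    push_neg at hc
    have h1 := congrArg (ModSite.germRing p V w) hb
    rw [germRing_sum, germRing_one] at h1
    exact (IsLocalRing.maximalIdeal.isMaximal _).ne_top ((Ideal.eq_top_iff_one _).2
      (h1 ▸ Submodule.sum_mem _ fun i _ => (IsLocalRing.mem_maximalIdeal _).2 (hc i)))
  obtain ⟨c, hc⟩ := hi.exists_right_inv
  obtain ⟨W, k, w', r, -, hk, hr, -⟩ := exists_lifts p L (ι := Unit) (κ := Empty) (fun _ => c) Empty.elim w
  have h1 : ModSite.germRing p W w' (rC k (b i) * r ()) = ModSite.germRing p W w' 1 := by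
    rw [germRing_mul, germRing_res_of_eq p hk, hr, hc, germRing_one]
  obtain ⟨W', k', w'', hk', hrr, -⟩ := exists_eq p L (ι := Unit) (κ := Empty) w'
    (fun _ => rC k (b i) * r ()) (fun _ => 1) Empty.elim Empty.elim (fun _ => h1) (fun e => e.elim)
  refine ⟨W', (k' ≫ k) ≫ g, w'', res ((jP O).obj L) (k' ≫ k).op (x i),
    rC k' (r ()) • res ((jP O).obj Q) (k' ≫ k).op (y i), ?_, ?_⟩
  · rw [FunctorToTypes.map_comp_apply, FunctorToTypes.map_comp_apply, hk', hk, hw]
  · rw [shT_smul_right, ap_smul, ← res_shT]
    refine (congrArg (fun t => toR (rC k' (r ()) • t)) (app_res ((jP O).map e.hom) (k' ≫ k).op _)).trans ?_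
    refine Eq.trans ?_ ((hrr ()).trans (map_one _))
    show rC k' (r ()) * rC (k' ≫ k) (b i) = rC k' (rC k (b i) * r ())
    rw [rC_comp, mul_comm]
    exact (map_mul _ _ _).symm

end Point

end Groth.Agent.InvLocLib
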